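import Mathlib
import Groth.Agent.Lib.Helper2.TorBalNatMod
import Groth.Agent.Lib.Helper2.TorBalLES

namespace Groth.Agent.H5.TorAR

open CategoryTheory CategoryTheory.Limits Category HomologicalComplex MonoidalCategory
open Groth.Agent.H2.TorBal

universe u

variable {R : Type u} [CommRing R]

variable (T : ShortComplex (ModuleCat.{u} R)) (hT : T.ShortExact)

lemma rel10 : (ComplexShape.down ℕ).Rel 1 0 := by simp

section J

variable {N : ModuleCat.{u} R} (Q : ProjectiveResolution N)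

include hT in
lemma shortExactQ : (T.map (tensorCx Q.complex)).ShortExact :=
  (deltaData Q).shortExact T hT

/-- connecting map with cleaned-up type. -/
noncomputable def δQ : ((tensorCx Q.complex).obj T.X₃).homology 1 ⟶
    ((tensorCx Q.complex).obj T.X₁).homology 0 :=
  (shortExactQ T hT Q).δ 1 0 rel10

lemma δQ_comp : δQ T hT Q ≫
    HomologicalComplex.homologyMap ((tensorCx Q.complex).map T.f) 0 = 0 :=
  (shortExactQ T hT Q).δ_comp 1 0 rel10

lemma mono_δQ [Module.Flat R T.X₂] : Mono (δQ T hT Q) :=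
  (shortExactQ T hT Q).mono_δ 1 0 rel10 (tensorCx_isZero_homology_succ Q T.X₂ 0)

/-- The connecting map `Tor₁(X₃, N) ⟶ X₁ ⊗ N`. -/
noncomputable def J : torObj 1 T.X₃ N ⟶ T.X₁ ⊗ N :=
  (torIsoTensorCx T.X₃ Q 1).hom ≫ δQ T hT Q ≫ (tensorCxZeroIso Q T.X₁).hom

lemma J_comp : J T hT Q ≫ (T.f ▷ N) = 0 := by
  have h1 := δQ_comp T hT Q
  have h2 := tensorCxZeroIso_hom_naturality Q T.f
  dsimp only [J]
  rw [assoc, assoc, ← h2, reassoc_of% h1, zero_comp, comp_zero]

lemma mono_J [Module.Flat R T.X₂] : Mono (J T hT Q) := by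
  have := mono_δQ T hT Q
  dsimp only [J]
  exact mono_comp' inferInstance (mono_comp' this inferInstance)

end J

section Nat

variable {N N' : ModuleCat.{u} R} (g : N ⟶ N') (Q : ProjectiveResolution N)
  (Q' : ProjectiveResolution N') (γ : Q.complex ⟶ Q'.complex)
  (comm : γ.f 0 ≫ Q'.π.f 0 = Q.π.f 0 ≫ g)

lemma δQ_naturality :
    HomologicalComplex.homologyMap ((tensorCxMap γ).app T.X₃) 1 ≫ δQ T hT Q' =
      δQ T hT Q ≫ HomologicalComplex.homologyMap ((tensorCxMap γ).app T.X₁) 0 :=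
  (HomologicalComplex.HomologySequence.δ_naturality
    (T.mapNatTrans (tensorCxMap γ)) (shortExactQ T hT Q) (shortExactQ T hT Q') 1 0 rel10).symm

include comm in
lemma J_naturality :
    ((Tor (ModuleCat.{u} R) 1).obj T.X₃).map g ≫ J T hT Q' = J T hT Q ≫ (T.X₁ ◁ g) := by
  have h1 := ProjectiveResolution.isoLeftDerivedObj_hom_naturality g Q Q' γ comm
    (tensorLeft T.X₃) 1
  have h2 := δQ_naturality T hT Q Q' γ
  have h3 := tensorCxZeroIso_compat g Q Q' γ comm T.X₁
  dsimp only [J]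
  exact sq_comp₃ h1 h2 h3

end Nat

end Groth.Agent.H5.TorAR
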