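import Mathlib

namespace Groth.Agent.H5.TorAR

open TensorProduct

universe u

variable {R : Type u} [CommRing R]

/-- Artin–Rees consequence. -/
theorem exists_inf_le_smul [IsNoetherianRing R] (I : Ideal R) {P : Type*} [AddCommGroup P]
    [Module R P] [Module.Finite R P] (K : Submodule R P) (n : ℕ) :
    ∃ m : ℕ, n ≤ m ∧ K ⊓ (I ^ m • (⊤ : Submodule R P)) ≤ I ^ n • K := by
  obtain ⟨c, hc⟩ := Ideal.exists_pow_inf_eq_pow_smul I K
  refine ⟨n + c, Nat.le_add_right _ _, ?_⟩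
  have h := hc (n + c) (Nat.le_add_left _ _)
  rw [inf_comm, h, Nat.add_sub_cancel]
  exact Submodule.smul_mono le_rfl inf_le_right

variable (I : Ideal R) {P : Type*} [AddCommGroup P] [Module R P] (K : Submodule R P)

theorem tmul_one_eq_zero_iff (p : P) :
    (p ⊗ₜ[R] (1 : R ⧸ I)) = 0 ↔ p ∈ I • (⊤ : Submodule R P) := by
  rw [← (TensorProduct.tensorQuotEquivQuotSMul P I).map_eq_zero_iff]
  have : (TensorProduct.tensorQuotEquivQuotSMul P I) (p ⊗ₜ[R] (1 : R ⧸ I)) =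
      Submodule.Quotient.mk p := by
    rw [← (TensorProduct.tensorQuotEquivQuotSMul P I).eq_symm_apply,
      TensorProduct.tensorQuotEquivQuotSMul_symm_mk]
  rw [this, Submodule.Quotient.mk_eq_zero]

theorem exists_tmul_one (x : K ⊗[R] (R ⧸ I)) : ∃ k : K, x = k ⊗ₜ[R] (1 : R ⧸ I) := by
  refine ⟨(TensorProduct.tensorQuotEquivQuotSMul K I x).out, ?_⟩
  apply (TensorProduct.tensorQuotEquivQuotSMul K I).injective
  have : (TensorProduct.tensorQuotEquivQuotSMul K I)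
      ((TensorProduct.tensorQuotEquivQuotSMul K I x).out ⊗ₜ[R] (1 : R ⧸ I)) =
      Submodule.Quotient.mk (TensorProduct.tensorQuotEquivQuotSMul K I x).out := by
    rw [← (TensorProduct.tensorQuotEquivQuotSMul K I).eq_symm_apply,
      TensorProduct.tensorQuotEquivQuotSMul_symm_mk]
  rw [this]
  exact (Quotient.out_eq _).symm

/-- Key algebra step. -/
theorem lTensor_factor_eq_zero {m n : ℕ} (h : I ^ m ≤ I ^ n)
    (hK : K ⊓ (I ^ m • (⊤ : Submodule R P)) ≤ I ^ n • K)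
    (x : K ⊗[R] (R ⧸ I ^ m)) (hx : (K.subtype.rTensor (R ⧸ I ^ m)) x = 0) :
    (LinearMap.lTensor K (Submodule.factor h)) x = 0 := by
  obtain ⟨k, rfl⟩ := exists_tmul_one (I ^ m) K x
  rw [LinearMap.rTensor_tmul, Submodule.subtype_apply, tmul_one_eq_zero_iff] at hx
  have hk : (k : P) ∈ I ^ n • K := hK ⟨k.2, hx⟩
  rw [LinearMap.lTensor_tmul]
  have h1 : Submodule.factor h (1 : R ⧸ I ^ m) = (1 : R ⧸ I ^ n) := rfl
  rw [h1, tmul_one_eq_zero_iff, Submodule.mem_smul_top_iff]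
  exact hk

end Groth.Agent.H5.TorAR
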