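import Mathlib
import Groth.Agent.Lib.Helper2.TorBalLin
import Groth.Agent.Lib.Helper5.TorAR.A
import Groth.Agent.Lib.Helper5.TorAR.B

namespace Groth.Agent.H5.TorAR

open CategoryTheory CategoryTheory.Limits Category HomologicalComplex MonoidalCategory
open Groth.Agent.H2.TorBal

universe u

theorem main (R : Type u) [CommRing R] [IsNoetherianRing R] (I : Ideal R)
    (M : Type u) [AddCommGroup M] [Module R M] [Module.Finite R M] (n : ℕ) :
    ∃ m : ℕ, n ≤ m ∧ ∀ h : I ^ m ≤ I ^ n,
      ((CategoryTheory.Tor (ModuleCat.{u} R) 1).obj (ModuleCat.of R M)).map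
        (ModuleCat.ofHom (Submodule.factor h)) = 0 := by
  obtain ⟨r, π, hπ⟩ := Module.Finite.exists_fin' R M
  let K : Submodule R (Fin r → R) := LinearMap.ker π
  have hex : Function.Exact K.subtype π := LinearMap.exact_subtype_ker_map π
  let T : ShortComplex (ModuleCat.{u} R) := scOfLinearMaps K.subtype π hex
  have hT : T.ShortExact := scOfLinearMaps_shortExact _ _ (Submodule.injective_subtype _) hex hπ
  obtain ⟨m, hm, hK⟩ := exists_inf_le_smul I K n
  refine ⟨m, hm, fun h => ?_⟩
  let g : ModuleCat.of R (R ⧸ I ^ m) ⟶ ModuleCat.of R (R ⧸ I ^ n) :=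
    ModuleCat.ofHom (Submodule.factor h)
  have hnat := J_naturality T hT g (projectiveResolution _) (projectiveResolution _)
    (ProjectiveResolution.lift g _ _) (ProjectiveResolution.lift_commutes_zero g _ _)
  haveI : Module.Flat R T.X₂ := inferInstanceAs (Module.Flat R (Fin r → R))
  haveI := mono_J T hT (projectiveResolution (ModuleCat.of R (R ⧸ I ^ n)))
  show ((CategoryTheory.Tor (ModuleCat.{u} R) 1).obj T.X₃).map g = 0
  rw [← cancel_mono (J T hT (projectiveResolution (ModuleCat.of R (R ⧸ I ^ n)))), zero_comp, hnat]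
  ext y
  have h1 := J_comp T hT (projectiveResolution (ModuleCat.of R (R ⧸ I ^ m)))
  have h2 : (T.f ▷ ModuleCat.of R (R ⧸ I ^ m)).hom
      ((J T hT (projectiveResolution (ModuleCat.of R (R ⧸ I ^ m)))).hom y) = 0 := by
    have := congrArg (fun φ => φ.hom y) h1
    simpa using this
  have h3 := lTensor_factor_eq_zero I K h hK
    ((J T hT (projectiveResolution (ModuleCat.of R (R ⧸ I ^ m)))).hom y) h2
  exact h3

end Groth.Agent.H5.TorAR
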